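import Groth.Agent.SchBasics.Spread

/-!
Two mutually inverse spreadings out give an isomorphism of neighbourhoods; only finite type is used.
-/

set_option autoImplicit false
set_option backward.isDefEq.respectTransparency.types false
universe u
open AlgebraicGeometry CategoryTheory TopologicalSpace

namespace Groth.Agent.Birat57

open SchBasics

variable {X Y S : Scheme.{u}}

/-- Spreadings out of a stalk isomorphism and of its inverse restrict to mutually inverse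
isomorphisms of neighbourhoods. -/
theorem exists_isIso_of_two_spreads (sX : X ⟶ S) (sY : Y ⟶ S) [LocallyOfFiniteType sX]
    [LocallyOfFiniteType sY] {x : X} {y : Y} (φ : Y.presheaf.stalk y ⟶ X.presheaf.stalk x) [IsIso φ]
    (U₀ : X.Opens) (hxU₀ : x ∈ U₀) (f₀ : U₀.toScheme ⟶ Y)
    (hf₀ : Spec.map φ ≫ Y.fromSpecStalk y = U₀.fromSpecStalkOfMem x hxU₀ ≫ f₀)
    (hfS : f₀ ≫ sY = U₀.ι ≫ sX)
    (V₀ : Y.Opens) (hyV₀ : y ∈ V₀) (g₀ : V₀.toScheme ⟶ X)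
    (hg₀ : Spec.map (inv φ) ≫ X.fromSpecStalk x = V₀.fromSpecStalkOfMem y hyV₀ ≫ g₀)
    (hgS : g₀ ≫ sX = V₀.ι ≫ sY) :
    ∃ (U : X.Opens) (hxU : x ∈ U) (V : Y.Opens) (f : U.toScheme ⟶ V.toScheme), IsIso f ∧
      Spec.map φ ≫ Y.fromSpecStalk y = U.fromSpecStalkOfMem x hxU ≫ f ≫ V.ι ∧
        f ≫ V.ι ≫ sY = U.ι ≫ sX := by
  set ι₁ := U₀.fromSpecStalkOfMem x hxU₀ with hι₁
  set ι₂ := V₀.fromSpecStalkOfMem y hyV₀ with hι₂
  -- f₀ x = y and g₀ y = x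
  have hfx : f₀ ⟨x, hxU₀⟩ = y := by
    have h1 : ι₁ (IsLocalRing.closedPoint _) = ⟨x, hxU₀⟩ := by
      apply U₀.ι.isOpenEmbedding.injective
      rw [← Scheme.Hom.comp_apply, hι₁, Scheme.Opens.fromSpecStalkOfMem_ι,
        Scheme.fromSpecStalk_closedPoint]
      rfl
    rw [← h1, ← Scheme.Hom.comp_apply, ← hf₀, Scheme.Hom.comp_apply]
    rw [IsLocalRing.comap_closedPoint φ.hom |> fun (h : (Spec.map φ) (IsLocalRing.closedPoint _) = IsLocalRing.closedPoint _) => h,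
      Scheme.fromSpecStalk_closedPoint]
  have hgy : g₀ ⟨y, hyV₀⟩ = x := by
    have h1 : ι₂ (IsLocalRing.closedPoint _) = ⟨y, hyV₀⟩ := by
      apply V₀.ι.isOpenEmbedding.injective
      rw [← Scheme.Hom.comp_apply, hι₂, Scheme.Opens.fromSpecStalkOfMem_ι,
        Scheme.fromSpecStalk_closedPoint]
      rfl
    rw [← h1, ← Scheme.Hom.comp_apply, ← hg₀, Scheme.Hom.comp_apply]
    rw [IsLocalRing.comap_closedPoint (inv φ).hom |> fun (h : (Spec.map (inv φ)) (IsLocalRing.closedPoint _) = IsLocalRing.closedPoint _) => h,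
      Scheme.fromSpecStalk_closedPoint]
  -- g ∘ f is the identity near x
  have key : ∀ {P Q : Scheme.{u}} (sP : P ⟶ S) (sQ : Q ⟶ S) [LocallyOfFiniteType sP]
      (U : P.Opens) (p : P) (hp : p ∈ U) (V : Q.Opens) (q : Q) (hq : q ∈ V)
      (f : U.toScheme ⟶ Q) (g : V.toScheme ⟶ P) (ψ : Q.presheaf.stalk q ⟶ P.presheaf.stalk p)
      [IsIso ψ],
      Spec.map ψ ≫ Q.fromSpecStalk q = U.fromSpecStalkOfMem p hp ≫ f →
      Spec.map (inv ψ) ≫ P.fromSpecStalk p = V.fromSpecStalkOfMem q hq ≫ g →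
      f ≫ sQ = U.ι ≫ sP → g ≫ sP = V.ι ≫ sQ → f ⟨p, hp⟩ = q →
      ∃ (U₁ : P.Opens) (_ : p ∈ U₁) (h1 : U₁ ≤ U) (l : U₁.toScheme ⟶ V),
        l ≫ V.ι = P.homOfLE h1 ≫ f ∧ l ≫ g = U₁.ι := by
    intro P Q sP sQ _ U p hp V q hq f g ψ _ hf hg hfs hgs hfp
    let Ua : P.Opens := U.ι ''ᵁ (f ⁻¹ᵁ V)
    have hpa : p ∈ Ua := ⟨⟨p, hp⟩, show f ⟨p, hp⟩ ∈ V from hfp ▸ hq, rfl⟩
    have hUa : Ua ≤ U := by rintro _ ⟨z, -, rfl⟩; exact z.2
    have hsub : Set.range (P.homOfLE hUa ≫ f) ⊆ Set.range V.ι := by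
      rintro _ ⟨⟨_, z', hz', rfl⟩, rfl⟩
      rw [Scheme.Opens.range_ι]
      change f (P.homOfLE hUa _) ∈ V
      rw [homOfLE_eq hUa _ z' rfl]
      exact hz'
    let la := IsOpenImmersion.lift V.ι (P.homOfLE hUa ≫ f) hsub
    have hla : la ≫ V.ι = P.homOfLE hUa ≫ f := IsOpenImmersion.lift_fac _ _ _
    have hstalk : Ua.fromSpecStalkOfMem p hpa ≫ la ≫ g = P.fromSpecStalk p := by
      have h1 : Ua.fromSpecStalkOfMem p hpa ≫ la = Spec.map ψ ≫ V.fromSpecStalkOfMem q hq := by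
        rw [← cancel_mono V.ι, Category.assoc, Category.assoc, hla, Scheme.Opens.fromSpecStalkOfMem_ι,
          hf, ← Category.assoc]
        congr 1
        rw [← cancel_mono U.ι, Category.assoc, Scheme.homOfLE_ι, Scheme.Opens.fromSpecStalkOfMem_ι,
          Scheme.Opens.fromSpecStalkOfMem_ι]
      rw [← Category.assoc, h1, Category.assoc, ← hg, ← Spec.map_comp_assoc, IsIso.inv_hom_id,
        Spec.map_id, Category.id_comp]
    have hlas : (la ≫ g) ≫ sP = Ua.ι ≫ sP := by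
      rw [Category.assoc, hgs, ← Category.assoc, hla, Category.assoc, hfs, ← Category.assoc,
        Scheme.homOfLE_ι]
    have hnew : Ua.toScheme.fromSpecStalk ⟨p, hpa⟩ ≫ (la ≫ g) =
        Ua.toScheme.fromSpecStalk ⟨p, hpa⟩ ≫ Ua.ι := by
      have h2 : Ua.fromSpecStalkOfMem p hpa ≫ (la ≫ g) = Ua.fromSpecStalkOfMem p hpa ≫ Ua.ι := by
        rw [hstalk, Scheme.Opens.fromSpecStalkOfMem_ι]
      simp only [Scheme.Opens.fromSpecStalkOfMem, Category.assoc] at h2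
      exact (cancel_epi _).mp h2
    obtain ⟨W, hW, hWe⟩ := spread_out_unique' (Ua.ι ≫ sP) sP (la ≫ g) Ua.ι hlas rfl hnew
    have hWU : Ua.ι ''ᵁ W ≤ Ua := by rintro _ ⟨z, -, rfl⟩; exact z.2
    refine ⟨Ua.ι ''ᵁ W, ⟨⟨p, hpa⟩, hW, rfl⟩, hWU.trans hUa, P.homOfLE hWU ≫ la, ?_, ?_⟩
    · rw [Category.assoc, hla, Scheme.homOfLE_homOfLE_assoc]
    · rw [← cancel_epi (Ua.ι.isoImage W).hom]
      have e1 : (Ua.ι.isoImage W).hom ≫ P.homOfLE hWU = W.ι := by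
        rw [← cancel_mono Ua.ι, Category.assoc, Scheme.homOfLE_ι, Scheme.Hom.isoImage_hom_ι]
      rw [← Category.assoc, ← Category.assoc, e1, Category.assoc, hWe, Scheme.Hom.isoImage_hom_ι]
  obtain ⟨U₁, hxU₁, hU₁, lU, hlU, hlU'⟩ :=
    key sX sY U₀ x hxU₀ V₀ y hyV₀ f₀ g₀ φ hf₀ hg₀ hfS hgS hfx
  obtain ⟨V₁, hyV₁, hV₁, lV, hlV, hlV'⟩ :=
    key sY sX V₀ y hyV₀ U₀ x hxU₀ g₀ f₀ (inv φ) hg₀ (by rw [IsIso.inv_inv]; exact hf₀) hgS hfS hgy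
  -- shrink
  let F := X.homOfLE hU₁ ≫ f₀
  let G := Y.homOfLE hV₁ ≫ g₀
  let U₂ : X.Opens := U₁.ι ''ᵁ (F ⁻¹ᵁ V₁)
  let V₂ : Y.Opens := V₁.ι ''ᵁ (G ⁻¹ᵁ U₁)
  have hU₂ : U₂ ≤ U₁ := by rintro _ ⟨z, -, rfl⟩; exact z.2
  have hV₂ : V₂ ≤ V₁ := by rintro _ ⟨z, -, rfl⟩; exact z.2
  have hFG : ∀ (u : U₁) (hu : F u ∈ V₁), G ⟨F u, hu⟩ = u.1 := fun u hu => by
    have hv : (⟨F u, hV₁ hu⟩ : V₀) = lU u := by
      apply V₀.ι.isOpenEmbedding.injective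
      rw [← Scheme.Hom.comp_apply lU, hlU]
      rfl
    have : Y.homOfLE hV₁ ⟨F u, hu⟩ = lU u := by
      rw [← hv]; exact Subtype.ext (by simp)
    change g₀ (Y.homOfLE hV₁ ⟨F u, hu⟩) = u.1
    rw [this, ← Scheme.Hom.comp_apply, hlU']
    rfl
  have hGF : ∀ (v : V₁) (hv : G v ∈ U₁), F ⟨G v, hv⟩ = v.1 := fun v hv => by
    have hu : (⟨G v, hU₁ hv⟩ : U₀) = lV v := by
      apply U₀.ι.isOpenEmbedding.injective
      rw [← Scheme.Hom.comp_apply lV, hlV]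
      rfl
    have : X.homOfLE hU₁ ⟨G v, hv⟩ = lV v := by
      rw [← hu]; exact Subtype.ext (by simp)
    change f₀ (X.homOfLE hU₁ ⟨G v, hv⟩) = v.1
    rw [this, ← Scheme.Hom.comp_apply, hlV']
    rfl
  have hxF : F ⟨x, hxU₁⟩ = y := by
    change f₀ (X.homOfLE hU₁ ⟨x, hxU₁⟩) = y
    rw [show X.homOfLE hU₁ ⟨x, hxU₁⟩ = ⟨x, hxU₀⟩ from Subtype.ext (by simp), hfx]
  have hxU₂ : x ∈ U₂ := ⟨⟨x, hxU₁⟩, show F ⟨x, hxU₁⟩ ∈ V₁ from hxF ▸ hyV₁, rfl⟩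
  have rF : Set.range (X.homOfLE hU₂ ≫ F) ⊆ Set.range V₂.ι := by
    rintro _ ⟨⟨_, z, hz, rfl⟩, rfl⟩
    rw [Scheme.Opens.range_ι]
    change F (X.homOfLE hU₂ _) ∈ V₂
    rw [homOfLE_eq hU₂ _ z rfl]
    exact ⟨⟨F z, hz⟩, show G ⟨F z, hz⟩ ∈ U₁ by rw [hFG z hz]; exact z.2, rfl⟩
  have rG : Set.range (Y.homOfLE hV₂ ≫ G) ⊆ Set.range U₂.ι := by
    rintro _ ⟨⟨_, z, hz, rfl⟩, rfl⟩
    rw [Scheme.Opens.range_ι]
    change G (Y.homOfLE hV₂ _) ∈ U₂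
    rw [homOfLE_eq hV₂ _ z rfl]
    exact ⟨⟨G z, hz⟩, show F ⟨G z, hz⟩ ∈ V₁ by rw [hGF z hz]; exact z.2, rfl⟩
  let fF := IsOpenImmersion.lift V₂.ι (X.homOfLE hU₂ ≫ F) rF
  let gG := IsOpenImmersion.lift U₂.ι (Y.homOfLE hV₂ ≫ G) rG
  have hfF : fF ≫ V₂.ι = X.homOfLE hU₂ ≫ F := IsOpenImmersion.lift_fac _ _ _
  have hgG : gG ≫ U₂.ι = Y.homOfLE hV₂ ≫ G := IsOpenImmersion.lift_fac _ _ _
  have c1 : fF ≫ gG = 𝟙 _ := by
    have : fF ≫ Y.homOfLE (hV₂.trans hV₁) = X.homOfLE hU₂ ≫ lU := by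
      rw [← cancel_mono V₀.ι, Category.assoc, Category.assoc, Scheme.homOfLE_ι, hfF, hlU]
    rw [← cancel_mono U₂.ι, Category.assoc, hgG, Category.id_comp, Scheme.homOfLE_homOfLE_assoc,
      reassoc_of% this, hlU', Scheme.homOfLE_ι]
  have c2 : gG ≫ fF = 𝟙 _ := by
    have : gG ≫ X.homOfLE (hU₂.trans hU₁) = Y.homOfLE hV₂ ≫ lV := by
      rw [← cancel_mono U₀.ι, Category.assoc, Category.assoc, Scheme.homOfLE_ι, hgG, hlV]
    rw [← cancel_mono V₂.ι, Category.assoc, hfF, Category.id_comp, Scheme.homOfLE_homOfLE_assoc,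
      reassoc_of% this, hlV', Scheme.homOfLE_ι]
  refine ⟨U₂, hxU₂, V₂, fF, ⟨gG, c1, c2⟩, ?_, ?_⟩
  · rw [hfF, hf₀, Scheme.homOfLE_homOfLE_assoc, ← Category.assoc]
    congr 1
    rw [← cancel_mono U₀.ι, Category.assoc, Scheme.homOfLE_ι, hι₁,
      Scheme.Opens.fromSpecStalkOfMem_ι, Scheme.Opens.fromSpecStalkOfMem_ι]
  · rw [← Category.assoc, hfF, Scheme.homOfLE_homOfLE_assoc, Category.assoc, hfS,
      ← Category.assoc, Scheme.homOfLE_ι]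

end Groth.Agent.Birat57
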