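import Groth.Agent.SchBasics.Spread
import Groth.Agent.Fin57.GenericFinite
import Groth.Agent.Fin57.FunctionField
import Groth.Agent.Birat57.TwoSpreads
import Mathlib.AlgebraicGeometry.Morphisms.IsIso
import Mathlib.AlgebraicGeometry.Morphisms.Proper

/-!
Morphisms inducing isomorphisms of local rings at maximal points.
-/

set_option autoImplicit false
set_option backward.isDefEq.respectTransparency.types false
set_option linter.style.haveILetI false
universe u

open CategoryTheory CategoryTheory.Limits AlgebraicGeometry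

namespace Groth.Agent.Birat57

open Norm57 (IsMax')

variable {X Y : Scheme.{u}} (f : X ⟶ Y)

/-- A point with iso stalk map has no proper specialization in its fibre. -/
theorem eq_of_specializes_of_isIso_stalkMap {x w : X} [IsIso (f.stalkMap x)] (h : x ⤳ w)
    (hfw : f w = f x) : w = x := by
  have hsp : IsIso (Y.presheaf.stalkSpecializes (h.map f.continuous)) := by
    have h' : (f x) ⤳ (f w) := (Inseparable.of_eq hfw.symm).specializes
    refine ⟨Y.presheaf.stalkSpecializes (Inseparable.of_eq hfw).specializes, ?_, ?_⟩ <;>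
      simp
  let χ := f.stalkMap w ≫ X.presheaf.stalkSpecializes h
  have hχ : χ = Y.presheaf.stalkSpecializes (h.map f.continuous) ≫ f.stalkMap x :=
    (Scheme.Hom.stalkSpecializes_stalkMap f x w h).symm
  haveI : IsIso χ := by rw [hχ]; infer_instance
  haveI hloc : IsLocalHom (X.presheaf.stalkSpecializes h).hom := by
    refine ⟨fun r hr => ?_⟩
    by_contra hnu
    let a := inv χ (X.presheaf.stalkSpecializes h r)
    have ha : IsUnit a := hr.map (inv χ).hom
    have hb : X.presheaf.stalkSpecializes h (f.stalkMap w a) = X.presheaf.stalkSpecializes h r := by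
      change χ (inv χ _) = _
      rw [← CommRingCat.comp_apply, IsIso.inv_hom_id]
      rfl
    have hu : IsUnit (r - f.stalkMap w a) := by
      by_contra hn
      have h1 : r ∈ IsLocalRing.maximalIdeal (X.presheaf.stalk w : Type u) :=
        (IsLocalRing.mem_maximalIdeal r).mpr hnu
      have h2 : r - f.stalkMap w a ∈ IsLocalRing.maximalIdeal (X.presheaf.stalk w : Type u) :=
        (IsLocalRing.mem_maximalIdeal _).mpr hn
      have := sub_mem h1 h2
      rw [sub_sub_cancel] at this
      exact (IsLocalRing.mem_maximalIdeal _).mp this (ha.map (f.stalkMap w).hom)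
    have := hu.map (X.presheaf.stalkSpecializes h).hom
    rw [map_sub, hb, sub_self, isUnit_zero_iff] at this
    exact zero_ne_one this
  have e := congr($(Scheme.SpecMap_stalkSpecializes_fromSpecStalk h) (IsLocalRing.closedPoint _))
  rw [Scheme.Hom.comp_apply, Scheme.fromSpecStalk_closedPoint] at e
  have hc : (Spec.map (X.presheaf.stalkSpecializes h)) (IsLocalRing.closedPoint _) =
      IsLocalRing.closedPoint _ := IsLocalRing.comap_closedPoint (X.presheaf.stalkSpecializes h).hom
  rw [hc, Scheme.fromSpecStalk_closedPoint] at e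
  exact e

/-- Over a maximal point of the base, a birational morphism has one point. -/
theorem preimage_eq_singleton (hbij : Set.BijOn f {x | IsMax' x} {y | IsMax' y})
    (hiso : ∀ x : X, IsMax' x → IsIso (f.stalkMap x)) {x : X} (hx : IsMax' x) :
    f ⁻¹' {f x} = {x} := by
  refine Set.eq_singleton_iff_unique_mem.mpr ⟨rfl, fun w hw => ?_⟩
  obtain ⟨z, hz, hzw⟩ := Norm57.exists_isMax'_specializes w
  have hfz : f z = f x := hbij.mapsTo hx _ ((show f w = f x from hw) ▸ hzw.map f.continuous)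
  obtain rfl : z = x := hbij.injOn hz hx hfz
  haveI := hiso z hz
  exact eq_of_specializes_of_isIso_stalkMap f hzw hw

/-- The base change of a birational morphism to the local scheme at a maximal point is an iso. -/
theorem isIso_pullback_fromSpecStalk {x : X} [IsIso (f.stalkMap x)] (hmax : IsMax' (f x))
    (hfib : f ⁻¹' {f x} = {x}) : IsIso (pullback.snd f (Y.fromSpecStalk (f x))) := by
  let P := pullback f (Y.fromSpecStalk (f x))
  have hrange : ∀ r : Spec (Y.presheaf.stalk (f x)), Y.fromSpecStalk (f x) r = f x := fun r => by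
    have : Y.fromSpecStalk (f x) r ∈ Set.range (Y.fromSpecStalk (f x)) := ⟨r, rfl⟩
    rw [Scheme.range_fromSpecStalk] at this
    exact hmax _ this
  haveI : Subsingleton (Spec (Y.presheaf.stalk (f x))) :=
    ⟨fun a b => (Y.fromSpecStalk (f x)).isEmbedding.injective ((hrange a).trans (hrange b).symm)⟩
  haveI : IsPreimmersion (pullback.fst f (Y.fromSpecStalk (f x))) := inferInstance
  have hfst : ∀ p : P, pullback.fst f (Y.fromSpecStalk (f x)) p = x := fun p => by
    refine hfib.le ?_
    change f _ = f x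
    rw [← Scheme.Hom.comp_apply, pullback.condition, Scheme.Hom.comp_apply, hrange]
  haveI : Subsingleton P :=
    ⟨fun a b => (pullback.fst f (Y.fromSpecStalk (f x))).isEmbedding.injective
      ((hfst a).trans (hfst b).symm)⟩
  let s : Spec (Y.presheaf.stalk (f x)) ⟶ P :=
    pullback.lift (Spec.map (inv (f.stalkMap x)) ≫ X.fromSpecStalk x) (𝟙 _) (by
      rw [Category.assoc, ← Scheme.SpecMap_stalkMap_fromSpecStalk, ← Category.assoc,
        ← Spec.map_comp, IsIso.hom_inv_id, Spec.map_id])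
  have hs : s ≫ pullback.snd f (Y.fromSpecStalk (f x)) = 𝟙 _ := pullback.lift_snd _ _ _
  haveI : IsClosedImmersion (pullback.snd f (Y.fromSpecStalk (f x))) := by
    haveI : IsPreimmersion (pullback.snd f (Y.fromSpecStalk (f x))) := by
      haveI : SurjectiveOnStalks (pullback.snd f (Y.fromSpecStalk (f x))) := by
        refine ⟨fun p => ?_⟩
        have h2 : Function.Surjective
            ((pullback.fst f (Y.fromSpecStalk (f x)) ≫ f).stalkMap p) := by
          rw [Scheme.Hom.stalkMap_comp]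
          haveI : IsIso (f.stalkMap (pullback.fst f (Y.fromSpecStalk (f x)) p)) := by
            rw [hfst p]; infer_instance
          intro z
          obtain ⟨z', rfl⟩ := (pullback.fst f (Y.fromSpecStalk (f x))).stalkMap_surjective p z
          obtain ⟨z'', rfl⟩ := (ConcreteCategory.bijective_of_isIso
            (f.stalkMap (pullback.fst f (Y.fromSpecStalk (f x)) p))).2 z'
          exact ⟨z'', rfl⟩
        rw [Scheme.Hom.stalkMap_congr_hom _ _ pullback.condition p] at h2
        have h3 : Function.Surjective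
            ((pullback.snd f (Y.fromSpecStalk (f x)) ≫ Y.fromSpecStalk (f x)).stalkMap p) :=
          Function.Surjective.of_comp h2
        rw [Scheme.Hom.stalkMap_comp] at h3
        exact Function.Surjective.of_comp h3
      exact ⟨Topology.IsClosedEmbedding.of_continuous_injective_isClosedMap
        (Scheme.Hom.continuous _) (fun a b _ => Subsingleton.elim a b)
        (fun C _ => isClosed_discrete _) |>.isEmbedding⟩
    exact IsClosedImmersion.of_isPreimmersion _
      (isClosed_discrete _)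
  haveI : IsSplitEpi (pullback.snd f (Y.fromSpecStalk (f x))) := ⟨⟨⟨s, hs⟩⟩⟩
  exact isIso_of_mono_of_isSplitEpi _

/-- A finite algebra over a domain, with a unique prime over `0` at which the local ring is the
fraction field, agrees with the domain after inverting one element. -/
theorem exists_smul_mem_range {A B : Type u} [CommRing A] [IsDomain A] [CommRing B] [Algebra A B]
    [Module.Finite A B] (q : Ideal B) (hq : ∀ P : Ideal B, P.IsPrime → P.comap (algebraMap A B) = ⊥ → P = q)
    (h : ∀ b : B, ∃ (a t : A) (r : B), t ≠ 0 ∧ r ∉ q ∧ r * (algebraMap A B t * b - algebraMap A B a) = 0) :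
    ∃ s : A, s ≠ 0 ∧ ∀ b : B, ∃ a, algebraMap A B s * b = algebraMap A B a := by
  classical
  have key : ∀ b : B, ∃ s : A, s ≠ 0 ∧ ∃ a, algebraMap A B s * b = algebraMap A B a := fun b => by
    obtain ⟨a, t, r, ht, hr, hc⟩ := h b
    set c := algebraMap A B t * b - algebraMap A B a
    let I := Submodule.colon (⊥ : Submodule B B) ({c} : Set B)
    have hrI : r ∈ I := Submodule.mem_colon_singleton.mpr ((Submodule.mem_bot B).mpr hc)
    have hI : I.comap (algebraMap A B) ≠ ⊥ := fun e => by
      obtain ⟨P, hIP, hP, hP0⟩ := Ideal.exists_ideal_over_prime_of_isIntegral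
        (⊥ : Ideal A) I e.le
      exact hr (hq P hP hP0 ▸ hIP hrI)
    obtain ⟨s', hs', hs0⟩ := Submodule.exists_mem_ne_zero_of_ne_bot hI
    refine ⟨s' * t, mul_ne_zero hs0 ht, s' * a, ?_⟩
    have := (Submodule.mem_bot B).mp (Submodule.mem_colon_singleton.mp hs')
    rw [smul_eq_mul, mul_sub, sub_eq_zero] at this
    rw [map_mul, map_mul, mul_assoc, this]
  choose s hs a ha using key
  obtain ⟨G, hG⟩ := (‹Module.Finite A B› : Module.Finite A B).fg_top
  refine ⟨∏ g ∈ G, s g, Finset.prod_ne_zero_iff.mpr fun g _ => hs g, fun b => ?_⟩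
  have hb : b ∈ Submodule.span A (G : Set B) := hG ▸ Submodule.mem_top
  induction hb using Submodule.span_induction with
  | mem g hg =>
    refine ⟨(∏ g' ∈ G.erase g, s g') * a g, ?_⟩
    rw [← Finset.prod_erase_mul G s hg, map_mul, map_mul, mul_assoc, ha]
  | zero => exact ⟨0, by simp⟩
  | add u v _ _ hu hv =>
    obtain ⟨c, hc⟩ := hu
    obtain ⟨d, hd⟩ := hv
    exact ⟨c + d, by rw [mul_add, hc, hd, map_add]⟩
  | smul r u _ hu =>
    obtain ⟨c, hc⟩ := hu
    exact ⟨r * c, by rw [Algebra.smul_def, mul_left_comm, hc, map_mul]⟩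

/-- Bijectivity on the localizations. -/
theorem bijective_away {A B A' B' : Type u} [CommRing A] [IsDomain A] [CommRing B] [CommRing A'] [CommRing B']
    [Algebra A B] [Algebra A A'] [Algebra B B'] (g : A' →+* B')
    (hg : g.comp (algebraMap A A') = (algebraMap B B').comp (algebraMap A B)) (s : A) (hs : s ≠ 0)
    [IsLocalization.Away s A'] [IsLocalization.Away (algebraMap A B s) B']
    (hinj : Function.Injective (algebraMap A B))
    (h : ∀ b : B, ∃ a, algebraMap A B s * b = algebraMap A B a) : Function.Bijective g := by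
  obtain ⟨v, hv⟩ := IsLocalization.Away.algebraMap_isUnit (S := A') s
  have hg' : ∀ a, g (algebraMap A A' a) = algebraMap B B' (algebraMap A B a) :=
    fun a => DFunLike.congr_fun hg a
  refine ⟨(injective_iff_map_eq_zero g).mpr fun z hz => ?_, fun w => ?_⟩
  · obtain ⟨n, a, ha⟩ := IsLocalization.Away.surj s z
    have h0 : algebraMap B B' (algebraMap A B a) = 0 := by rw [← hg', ← ha, map_mul, hz, zero_mul]
    obtain ⟨⟨_, k, rfl⟩, hk⟩ := (IsLocalization.map_eq_zero_iff
      (Submonoid.powers (algebraMap A B s)) B' _).mp h0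
    have : a = 0 := by
      dsimp only at hk
      rw [← map_pow, ← map_mul] at hk
      exact (mul_eq_zero.mp (hinj (hk.trans (map_zero _).symm))).resolve_left (pow_ne_zero _ hs)
    rw [this, map_zero, ← hv] at ha
    exact (v.isUnit.pow n).mul_left_eq_zero.mp ha
  · obtain ⟨n, b, hb⟩ := IsLocalization.Away.surj (algebraMap A B s) w
    obtain ⟨a, ha⟩ := h b
    refine ⟨algebraMap A A' a * (↑v⁻¹ : A') ^ (n + 1), ?_⟩
    have e : g (↑v⁻¹ : A') * algebraMap B B' (algebraMap A B s) = 1 := by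
      rw [← hg', ← hv, ← map_mul, Units.inv_mul, map_one]
    calc g (algebraMap A A' a * (↑v⁻¹ : A') ^ (n + 1))
        = g (↑v⁻¹ : A') ^ (n + 1) * (algebraMap B B' (algebraMap A B s) *
            (w * algebraMap B B' (algebraMap A B s) ^ n)) := by
          rw [hb, ← map_mul (algebraMap B B'), ha, map_mul, hg', map_pow, mul_comm]
      _ = (g (↑v⁻¹ : A') * algebraMap B B' (algebraMap A B s)) ^ (n + 1) * w := by ring
      _ = w := by rw [e, one_pow, one_mul]

/-- A finite morphism onto an integral scheme with a single generic point over which the stalk map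
is bijective is an isomorphism over a neighbourhood of the generic point. -/
theorem exists_isIso_of_isFinite {U V : Scheme.{u}} [IsIntegral V] (g : U ⟶ V) {η : V} {x : U}
    (hfib : g ⁻¹' {η} ⊆ {x}) (hgx : g x = η) [IsIso (g.stalkMap x)]
    {D : V.Opens} (hD : IsAffineOpen D) (hηD : η ∈ D) (hfD : IsFinite (g ∣_ D))
    (hgen : η = genericPoint V) :
    ∃ s : V.Opens, η ∈ s ∧ IsIso (g ∣_ s) := by
  subst hgx
  have hE : IsAffineOpen (g ⁻¹ᵁ D) := by
    haveI : IsAffine D := hD
    exact isAffine_of_isAffineHom (g ∣_ D)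
  have hfinA : (g.appLE D (g ⁻¹ᵁ D) le_rfl).hom.Finite :=
    (Fin57.isFinite_resLE_iff g hE hD le_rfl).mp (Scheme.Hom.resLE_eq_morphismRestrict g ▸ hfD)
  rw [← Scheme.Hom.app_eq_appLE] at hfinA
  letI := (g.app D).hom.toAlgebra
  haveI : Module.Finite Γ(V, D) Γ(U, g ⁻¹ᵁ D) := hfinA
  haveI : Nonempty D := ⟨⟨g x, hηD⟩⟩
  have hxE : x ∈ g ⁻¹ᵁ D := hηD
  letI := V.presheaf.algebra_section_stalk ⟨g x, hηD⟩
  letI := U.presheaf.algebra_section_stalk ⟨x, hxE⟩
  haveI : IsLocalization.AtPrime (U.presheaf.stalk x) (hE.primeIdealOf ⟨x, hxE⟩).asIdeal :=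
    hE.isLocalization_stalk ⟨x, hxE⟩
  haveI : IsLocalization.AtPrime (V.presheaf.stalk (g x)) (hD.primeIdealOf ⟨g x, hηD⟩).asIdeal :=
    hD.isLocalization_stalk ⟨g x, hηD⟩
  have hbij := ConcreteCategory.bijective_of_isIso (g.stalkMap x)
  have hgerm : ∀ a, g.stalkMap x (V.presheaf.germ D (g x) hηD a) =
      U.presheaf.germ (g ⁻¹ᵁ D) x hxE (g.app D a) := Scheme.Hom.germ_stalkMap_apply g D x hxE
  have hinj : Function.Injective (algebraMap Γ(V, D) Γ(U, g ⁻¹ᵁ D)) := fun a b e => by
    refine germ_injective_of_isIntegral V (g x) hηD (hbij.1 ?_)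
    rw [hgerm, hgerm]
    exact congrArg _ e
  have hq : ∀ P : Ideal Γ(U, g ⁻¹ᵁ D), P.IsPrime →
      P.comap (algebraMap Γ(V, D) Γ(U, g ⁻¹ᵁ D)) = ⊥ → P = (hE.primeIdealOf ⟨x, hxE⟩).asIdeal := by
    intro P hP hP0
    have h1 : g (hE.fromSpec ⟨P, hP⟩) = g x := by
      rw [← Scheme.Hom.comp_apply, ← IsAffineOpen.SpecMap_appLE_fromSpec g hD hE le_rfl,
        Scheme.Hom.comp_apply, ← Scheme.Hom.app_eq_appLE]
      have e0 : (hD.primeIdealOf ⟨g x, hηD⟩).asIdeal = ⊥ := by
        have : (⟨g x, hηD⟩ : D) = ⟨genericPoint V, hgen ▸ hηD⟩ := Subtype.ext hgen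
        rw [this, hD.primeIdealOf_genericPoint, genericPoint_eq_bot_of_affine]
        rfl
      rw [show Spec.map (g.app D) ⟨P, hP⟩ = hD.primeIdealOf ⟨g x, hηD⟩ from
        PrimeSpectrum.ext (hP0.trans e0.symm), hD.fromSpec_primeIdealOf]
    have h2 : hE.fromSpec ⟨P, hP⟩ = x := hfib h1
    have := hE.fromSpec.isOpenEmbedding.injective (h2.trans (hE.fromSpec_primeIdealOf ⟨x, hxE⟩).symm)
    exact congrArg PrimeSpectrum.asIdeal this
  have hloc : ∀ b : Γ(U, g ⁻¹ᵁ D), ∃ (a t : Γ(V, D)) (r : Γ(U, g ⁻¹ᵁ D)), t ≠ 0 ∧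
      r ∉ (hE.primeIdealOf ⟨x, hxE⟩).asIdeal ∧
      r * (algebraMap Γ(V, D) Γ(U, g ⁻¹ᵁ D) t * b - algebraMap Γ(V, D) Γ(U, g ⁻¹ᵁ D) a) = 0 := by
    intro b
    obtain ⟨k, hk⟩ := hbij.2 (U.presheaf.germ (g ⁻¹ᵁ D) x hxE b)
    obtain ⟨a, t, hkt⟩ := IsLocalization.exists_mk'_eq (hD.primeIdealOf ⟨g x, hηD⟩).asIdeal.primeCompl k
    have hk' := IsLocalization.mk'_eq_iff_eq_mul.mp hkt
    have h0 : U.presheaf.germ (g ⁻¹ᵁ D) x hxE (g.app D t.1 * b - g.app D a) = 0 := by
      rw [map_sub, map_mul, ← hgerm, ← hgerm, ← hk, ← map_mul]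
      rw [show V.presheaf.germ D (g x) hηD a = k * V.presheaf.germ D (g x) hηD t.1 from hk',
        mul_comm, sub_self]
    obtain ⟨⟨r, hr⟩, hr0⟩ := (IsLocalization.map_eq_zero_iff
      (hE.primeIdealOf ⟨x, hxE⟩).asIdeal.primeCompl (U.presheaf.stalk x) _).mp h0
    exact ⟨a, t.1, r, fun e => t.2 (e ▸ Ideal.zero_mem _), hr, hr0⟩
  obtain ⟨s, hs, hrange⟩ := exists_smul_mem_range (A := Γ(V, D)) _ hq hloc
  have hηs : g x ∈ V.basicOpen s := by
    have hne : (V.basicOpen s : Set V).Nonempty := by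
      rw [Set.nonempty_iff_ne_empty]
      intro e
      exact hs ((basicOpen_eq_bot_iff s).mp (TopologicalSpace.Opens.ext e))
    rw [hgen]
    exact ((genericPoint_spec V).mem_open_set_iff (V.basicOpen s).2).mpr (by simpa using hne)
  refine ⟨V.basicOpen s, hηs, ?_⟩
  have hle : V.basicOpen s ≤ D := V.basicOpen_le s
  have hEs : g ⁻¹ᵁ V.basicOpen s = U.basicOpen (g.app D s) := Scheme.preimage_basicOpen g s
  letI := (V.presheaf.map (homOfLE hle).op).hom.toAlgebra
  letI := (U.presheaf.map (homOfLE (g.preimage_mono hle)).op).hom.toAlgebra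
  haveI : IsLocalization.Away s Γ(V, V.basicOpen s) := hD.isLocalization_basicOpen s
  haveI : IsLocalization.Away (algebraMap Γ(V, D) Γ(U, g ⁻¹ᵁ D) s) Γ(U, g ⁻¹ᵁ V.basicOpen s) :=
    hE.isLocalization_of_eq_basicOpen _ (homOfLE (g.preimage_mono hle)) hEs
  have hb := bijective_away (A := Γ(V, D)) (B := Γ(U, g ⁻¹ᵁ D)) (g.app (V.basicOpen s)).hom
    (by simp only [RingHom.algebraMap_toAlgebra, ← CommRingCat.hom_comp, g.naturality]; rfl)
    s hs hinj hrange
  haveI : IsAffine (V.basicOpen s).toScheme := hD.basicOpen s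
  haveI : IsAffine (g ⁻¹ᵁ V.basicOpen s).toScheme := hEs ▸ hE.basicOpen _
  refine (HasAffineProperty.iff_of_isAffine (P := MorphismProperty.isomorphisms Scheme)).mpr
    ⟨inferInstance, ?_⟩
  have hb' : IsIso (g.app (V.basicOpen s)) := (ConcreteCategory.isIso_iff_bijective _).mpr hb
  rw [Scheme.Hom.appTop, morphismRestrict_app]
  haveI : IsIso (g.app ((V.basicOpen s).ι ''ᵁ ⊤)) :=
    (fun D' (h : D' = V.basicOpen s) => (h ▸ hb' : IsIso (g.app D'))) _ (Scheme.Opens.ι_image_top _)
  have hmapiso : ∀ {A B : (TopologicalSpace.Opens U)} (h : A = B), IsIso (U.presheaf.map (eqToHom h).op) := by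
    rintro A B rfl
    simp only [eqToHom_refl, op_id, CategoryTheory.Functor.map_id]
    all_goals infer_instance
  exact IsIso.comp_isIso' this (hmapiso _)

/-- A finite type morphism to a reduced scheme inducing an isomorphism on the stalk at a maximal
point is an open immersion near that point. -/
theorem exists_isOpenImmersion_of_reduced [LocallyOfFiniteType f] [IsReduced Y]
    (hX : (irreducibleComponents X).Finite) (hY : (irreducibleComponents Y).Finite)
    {x : X} (hx : IsMax' x) (hy : IsMax' (f x)) [IsIso (f.stalkMap x)] :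
    ∃ U : X.Opens, x ∈ U ∧ IsOpenImmersion (U.ι ≫ f) := by
  obtain ⟨N, hN, hNd⟩ := Fin57.exists_disjoint_opens hY
  obtain ⟨O, hO, hOd⟩ := Fin57.exists_disjoint_opens hX
  obtain ⟨V, hV, hyV, hVN⟩ := exists_isAffineOpen_mem_and_subset (x := f x) (U := N ⟨_, hy⟩)
    (hN ⟨_, hy⟩)
  obtain ⟨U, hU, hxU, hUV⟩ := exists_isAffineOpen_mem_and_subset (x := x)
    (U := O ⟨x, hx⟩ ⊓ f ⁻¹ᵁ V) ⟨hO ⟨x, hx⟩, hyV⟩
  have hUV' : U ≤ f ⁻¹ᵁ V := fun z hz => (hUV hz).2
  haveI : IsAffine V := hV
  haveI : IsAffine U := hU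
  -- every point of `V` is a specialization of `f x`
  have hVgen : ∀ v : V, f x ⤳ v.1 := fun v => by
    obtain ⟨w, hw, hwv⟩ := Norm57.exists_isMax'_specializes v.1
    by_cases hwe : w = f x
    · exact hwe ▸ hwv
    · exact absurd (hVN v.2) (fun hv => Set.disjoint_left.mp
        (TopologicalSpace.Opens.coe_disjoint.mpr (hNd (i := ⟨w, hw⟩) (j := ⟨f x, hy⟩)
          (fun e => hwe (congrArg Subtype.val e))))
        (hwv.mem_open (N ⟨f x, hy⟩).2 hv |> fun _ => hN ⟨w, hw⟩)
        (hwv.mem_open (N ⟨f x, hy⟩).2 hv))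
  let g := f.resLE V U hUV'
  let η : V.toScheme := ⟨f x, hyV⟩
  have hη : IsMax' η := fun w hw => Subtype.ext (hy _ (hw.map V.ι.continuous))
  have hfib : g ⁻¹' {η} ⊆ {⟨x, hxU⟩} := fun z hz => by
    have hfz : f z.1 = f x := by
      rw [← Scheme.Hom.coe_resLE_apply f hUV']
      exact congrArg Subtype.val hz
    obtain ⟨w, hw, hwz⟩ := Norm57.exists_isMax'_specializes z.1
    have hwx : w = x := by
      by_contra hne
      exact Set.disjoint_left.mp (TopologicalSpace.Opens.coe_disjoint.mpr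
        (hOd (i := ⟨w, hw⟩) (j := ⟨x, hx⟩) fun e => hne (congrArg Subtype.val e)))
        (hO ⟨w, hw⟩) (hwz.mem_open (O ⟨x, hx⟩).2 (hUV z.2).1)
    exact Subtype.ext (eq_of_specializes_of_isIso_stalkMap f (hwx ▸ hwz) hfz)
  haveI : LocallyOfFiniteType g := by
    haveI : LocallyOfFiniteType (g ≫ V.ι) := by
      rw [show g ≫ V.ι = U.ι ≫ f from Scheme.Hom.resLE_comp_ι f hUV']
      infer_instance
    exact locallyOfFiniteType_of_comp g V.ι
  haveI : QuasiCompact g := inferInstance
  obtain ⟨D, hD, hηD, -, -, hfD⟩ := Fin57.exists_isFinite_restrict g hη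
    ((Set.finite_singleton _).subset hfib) (isAffineOpen_top V.toScheme) (Set.mem_univ η)
    (isAffineOpen_top U.toScheme) le_top (Set.subset_univ _)
  haveI : IsIso (g.stalkMap ⟨x, hxU⟩) :=
    ((MorphismProperty.isomorphisms _).arrow_mk_iso_iff
      (Scheme.Hom.resLEStalkMap f hUV' ⟨x, hxU⟩)).mpr (show IsIso (f.stalkMap x) from inferInstance)
  have hgx : g ⟨x, hxU⟩ = η := Subtype.ext (Scheme.Hom.coe_resLE_apply f hUV' ⟨x, hxU⟩)
  haveI : IsReduced V.toScheme := inferInstance
  haveI : IrreducibleSpace V.toScheme :=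
    (irreducibleSpace_def _).mpr (by
      have he : closure ({η} : Set V.toScheme) = Set.univ := Set.eq_univ_of_forall fun v =>
        specializes_iff_mem_closure.mp ((V.ι.isEmbedding.isInducing.specializes_iff).mp (hVgen v))
      rw [Set.top_eq_univ, ← he]
      exact isIrreducible_singleton.closure)
  haveI : IsIntegral V.toScheme := isIntegral_of_irreducibleSpace_of_isReduced _
  obtain ⟨s, hs, hiso⟩ := exists_isIso_of_isFinite g hfib hgx hD hηD hfD (hη _ (genericPoint_specializes η)).symm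
  refine ⟨U.ι ''ᵁ (g ⁻¹ᵁ s), ⟨⟨x, hxU⟩, show g _ ∈ s from hgx.symm ▸ hs, rfl⟩, ?_⟩
  have e : (U.ι ''ᵁ (g ⁻¹ᵁ s)).ι ≫ f =
      (U.ι.isoImage (g ⁻¹ᵁ s)).inv ≫ (g ∣_ s) ≫ s.ι ≫ V.ι := by
    rw [morphismRestrict_ι_assoc, Scheme.Hom.resLE_comp_ι,
      ← Scheme.Hom.isoImage_inv_ι U.ι (g ⁻¹ᵁ s)]
    simp only [Category.assoc]
  rw [e]
  infer_instance

end Groth.Agent.Birat57
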