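import Groth.Agent.Birat57.Generic

/-!
Dense opens on which a birational morphism is an isomorphism.
-/

set_option autoImplicit false
set_option backward.isDefEq.respectTransparency.types false
set_option linter.style.haveILetI false
universe u

open CategoryTheory CategoryTheory.Limits AlgebraicGeometry

namespace Groth.Agent.Birat57

open Norm57 (IsMax')

variable {X Y : Scheme.{u}} (f : X ⟶ Y)

theorem dense_of_forall_isMax'_mem {U : X.Opens} (h : ∀ x : X, IsMax' x → x ∈ U) :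
    Dense (U : Set X) := fun z => by
  obtain ⟨w, hw, hwz⟩ := Norm57.exists_isMax'_specializes z
  exact closure_mono (Set.singleton_subset_iff.mpr (h w hw)) hwz.mem_closure

/-- Local open immersions at the maximal points glue to one on a dense open. -/
theorem exists_isOpenImmersion (hX : (irreducibleComponents X).Finite)
    (hY : (irreducibleComponents Y).Finite)
    (hbij : Set.BijOn f {x | IsMax' x} {y | IsMax' y})
    (hloc : ∀ x : X, IsMax' x → ∃ U : X.Opens, x ∈ U ∧ IsOpenImmersion (U.ι ≫ f)) :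
    ∃ U : X.Opens, (∀ x, IsMax' x → x ∈ U) ∧ IsOpenImmersion (U.ι ≫ f) := by
  classical
  obtain ⟨N, hN, hNd⟩ := Fin57.exists_disjoint_opens hY
  choose W hxW hW using hloc
  let U' : {x : X // IsMax' x} → X.Opens := fun x =>
    W x.1 x.2 ⊓ f ⁻¹ᵁ N ⟨f x.1, hbij.mapsTo x.2⟩
  refine ⟨⨆ x, U' x, fun x hx => TopologicalSpace.Opens.mem_iSup.mpr
    ⟨⟨x, hx⟩, hxW x hx, hN ⟨f x, hbij.mapsTo hx⟩⟩, ?_⟩
  set U := ⨆ x, U' x
  let 𝒲 : {x : X // IsMax' x} → U.toScheme.Opens := fun x => U.ι ⁻¹ᵁ U' x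
  have hle : ∀ x, U' x ≤ U := le_iSup U'
  have hloc' : ∀ x, IsOpenImmersion ((𝒲 x).ι ≫ U.ι ≫ f) := fun x => by
    have hr : Set.range ((𝒲 x).ι ≫ U.ι) ⊆ Set.range (W x.1 x.2).ι := by
      rintro _ ⟨z, rfl⟩
      rw [Scheme.Opens.range_ι]
      exact (show U.ι ((𝒲 x).ι z) ∈ U' x from z.2).1
    have e : (𝒲 x).ι ≫ U.ι ≫ f =
        IsOpenImmersion.lift (W x.1 x.2).ι ((𝒲 x).ι ≫ U.ι) hr ≫ (W x.1 x.2).ι ≫ f := by
      rw [IsOpenImmersion.lift_fac_assoc, Category.assoc]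
    haveI := hW x.1 x.2
    haveI : IsOpenImmersion (IsOpenImmersion.lift (W x.1 x.2).ι ((𝒲 x).ι ≫ U.ι) hr) := by
      haveI : IsOpenImmersion (IsOpenImmersion.lift (W x.1 x.2).ι ((𝒲 x).ι ≫ U.ι) hr ≫
          (W x.1 x.2).ι) := by
        rw [IsOpenImmersion.lift_fac]; infer_instance
      exact IsOpenImmersion.of_comp _ (W x.1 x.2).ι
    rw [e]
    infer_instance
  have hopen : IsOpenMap (U.ι ≫ f) := isOpenMap_iff_nhds_le.mpr fun z => by
    obtain ⟨x, hx⟩ := TopologicalSpace.Opens.mem_iSup.mp z.2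
    haveI := hloc' x
    have hz : (⟨z, hx⟩ : (𝒲 x).toScheme) = ⟨z, hx⟩ := rfl
    have := ((𝒲 x).ι ≫ U.ι ≫ f).isOpenEmbedding.map_nhds_eq ⟨z, hx⟩
    refine this.symm.le.trans ?_
    have h2 : Filter.map ((𝒲 x).ι) (nhds ⟨z, hx⟩) = nhds z :=
      (𝒲 x).ι.isOpenEmbedding.map_nhds_eq ⟨z, hx⟩
    rw [← h2, Filter.map_map]
    rfl
  have hinj : Function.Injective (U.ι ≫ f) := by
    rintro ⟨a, ha⟩ ⟨b, hb⟩ hab
    obtain ⟨x, hx⟩ := TopologicalSpace.Opens.mem_iSup.mp ha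
    obtain ⟨y, hy⟩ := TopologicalSpace.Opens.mem_iSup.mp hb
    have hab' : f a = f b := hab
    have hxy : x = y := by
      by_contra hne
      refine Set.disjoint_left.mp (TopologicalSpace.Opens.coe_disjoint.mpr
        (hNd (i := ⟨f x.1, hbij.mapsTo x.2⟩) (j := ⟨f y.1, hbij.mapsTo y.2⟩) fun e =>
          hne (Subtype.ext (hbij.injOn x.2 y.2 (congrArg Subtype.val e))))) hx.2 ?_
      rw [show f a = f b from hab']
      exact hy.2
    subst hxy
    haveI := hloc' x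
    have := ((𝒲 x).ι ≫ U.ι ≫ f).isOpenEmbedding.injective
      (a₁ := ⟨⟨a, ha⟩, hx⟩) (a₂ := ⟨⟨b, hb⟩, hy⟩) hab
    exact congrArg Subtype.val this
  haveI : ∀ z, IsIso ((U.ι ≫ f).stalkMap z) := fun z => by
    obtain ⟨x, hx⟩ := TopologicalSpace.Opens.mem_iSup.mp z.2
    haveI := hloc' x
    let z' : (𝒲 x).toScheme := ⟨z, hx⟩
    haveI h1 : IsIso ((𝒲 x).ι.stalkMap z') :=
      (IsOpenImmersion.iff_isIso_stalkMap.mp inferInstance).2 z'
    haveI : IsIso ((U.ι ≫ f).stalkMap ((𝒲 x).ι z') ≫ (𝒲 x).ι.stalkMap z') := by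
      rw [← Scheme.Hom.stalkMap_comp]
      exact (IsOpenImmersion.iff_isIso_stalkMap.mp (hloc' x)).2 z'
    exact @IsIso.of_isIso_comp_right _ _ _ _ _ _ ((𝒲 x).ι.stalkMap z') h1 this
  exact .of_isIso_stalkMap _
    (.of_continuous_injective_isOpenMap (Scheme.Hom.continuous _) hinj hopen)

/-- The image of a dense open immersion is a target of an isomorphism. -/
theorem exists_isIso_resLE {U : X.Opens} [IsOpenImmersion (U.ι ≫ f)] :
    ∃ hUV : U ≤ f ⁻¹ᵁ (U.ι ≫ f).opensRange, IsIso (f.resLE (U.ι ≫ f).opensRange U hUV) := by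
  have hUV : U ≤ f ⁻¹ᵁ (U.ι ≫ f).opensRange := fun x hx => ⟨⟨x, hx⟩, rfl⟩
  refine ⟨hUV, ?_⟩
  haveI : IsOpenImmersion (f.resLE (U.ι ≫ f).opensRange U hUV) := by
    haveI : IsOpenImmersion (f.resLE (U.ι ≫ f).opensRange U hUV ≫ (U.ι ≫ f).opensRange.ι) := by
      rw [Scheme.Hom.resLE_comp_ι]; infer_instance
    exact IsOpenImmersion.of_comp _ (U.ι ≫ f).opensRange.ι
  haveI : Epi (f.resLE (U.ι ≫ f).opensRange U hUV).base := by
    refine (TopCat.epi_iff_surjective _).mpr ?_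
    rintro ⟨_, z, rfl⟩
    exact ⟨z, Subtype.ext (Scheme.Hom.coe_resLE_apply f hUV z)⟩
  exact IsOpenImmersion.isIso _

theorem hloc_of_or (hX : (irreducibleComponents X).Finite) (hY : (irreducibleComponents Y).Finite)
    (hbij : Set.BijOn f {x | IsMax' x} {y | IsMax' y})
    (hiso : ∀ x : X, IsMax' x → IsIso (f.stalkMap x))
    (hf : (LocallyOfFiniteType f ∧ IsReduced Y) ∨ LocallyOfFinitePresentation f) :
    ∀ x : X, IsMax' x → ∃ U : X.Opens, x ∈ U ∧ IsOpenImmersion (U.ι ≫ f) := fun x hx => by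
  haveI := hiso x hx
  rcases hf with ⟨h1, h2⟩ | h
  · exact exists_isOpenImmersion_of_reduced f hX hY hx (hbij.mapsTo hx)
  · exact SchBasics.exists_isOpenImmersion_of_isIso_stalkMap f x

/-- Over a dense open of the base, a birational morphism which is quasi-compact or separated is an
isomorphism. -/
theorem exists_isIso_restrict (hX : (irreducibleComponents X).Finite)
    (hY : (irreducibleComponents Y).Finite)
    (hbij : Set.BijOn f {x | IsMax' x} {y | IsMax' y})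
    (hiso : ∀ x : X, IsMax' x → IsIso (f.stalkMap x))
    (hf₁ : QuasiCompact f ∨ IsSeparated f)
    (hf : (LocallyOfFiniteType f ∧ IsReduced Y) ∨ LocallyOfFinitePresentation f) :
    ∃ V : Y.Opens, Dense (V : Set Y) ∧ IsIso (f ∣_ V) := by
  obtain ⟨U, hU, hUf⟩ := exists_isOpenImmersion f hX hY hbij (hloc_of_or f hX hY hbij hiso hf)
  obtain ⟨hUV, hres⟩ := exists_isIso_resLE f (U := U)
  set V := (U.ι ≫ f).opensRange
  have hVmax : ∀ y, IsMax' y → y ∈ V := fun y hy => by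
    obtain ⟨x, hx, rfl⟩ := hbij.surjOn hy
    exact ⟨⟨x, hU x hx⟩, rfl⟩
  suffices ∃ V' : Y.Opens, (∀ y, IsMax' y → y ∈ V') ∧ V' ≤ V ∧ f ⁻¹ᵁ V' ≤ U by
    obtain ⟨V', hV', hV'V, hV'U⟩ := this
    refine ⟨V', dense_of_forall_isMax'_mem hV', ?_⟩
    haveI : IsOpenImmersion (f ∣_ V') := by
      haveI : IsOpenImmersion ((f ∣_ V') ≫ V'.ι) := by
        rw [morphismRestrict_ι, ← X.homOfLE_ι hV'U, Category.assoc]
        infer_instance
      exact IsOpenImmersion.of_comp _ V'.ι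
    haveI : Epi (f ∣_ V').base := by
      refine (TopCat.epi_iff_surjective _).mpr fun v => ?_
      obtain ⟨z, hz⟩ := hV'V v.2
      have hz' : f z.1 = v.1 := hz
      exact ⟨⟨z.1, show f z.1 ∈ V' from hz' ▸ v.2⟩,
        Subtype.ext ((morphismRestrict_base_coe f V' _).trans hz')⟩
    exact IsOpenImmersion.isIso _
  rcases hf₁ with hq | hs
  · have hk : ∀ y : {y : Y // IsMax' y}, ∃ V' : Y.Opens, y.1 ∈ V' ∧ V' ≤ V ∧ f ⁻¹ᵁ V' ≤ U := by
      rintro ⟨y, hy⟩
      obtain ⟨x, hx, rfl⟩ := hbij.surjOn hy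
      obtain ⟨A, hA, hyA, hAV⟩ := exists_isAffineOpen_mem_and_subset (x := f x) (hVmax _ hy)
      obtain ⟨g, hg, hgU⟩ := Fin57.exists_basicOpen_preimage_le f hy hA hyA (W := U)
        (by rw [preimage_eq_singleton f hbij hiso hx, Set.singleton_subset_iff]; exact hU x hx)
      exact ⟨Y.basicOpen g, hg, (Y.basicOpen_le g).trans hAV, hgU⟩
    choose V' h1 h2 h3 using hk
    refine ⟨⨆ y, V' y, fun y hy => TopologicalSpace.Opens.mem_iSup.mpr ⟨⟨y, hy⟩, h1 ⟨y, hy⟩⟩,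
      iSup_le h2, ?_⟩
    rw [Scheme.Hom.preimage_iSup]
    exact iSup_le h3
  · refine ⟨V, hVmax, le_rfl, fun x hx => ?_⟩
    haveI : IsProper (X.homOfLE hUV ≫ f ∣_ V) := by
      rw [← Scheme.Hom.resLE_eq_morphismRestrict, Scheme.Hom.map_resLE]
      infer_instance
    haveI : IsProper (X.homOfLE hUV) := IsProper.of_comp (X.homOfLE hUV) (f ∣_ V)
    have hcl : IsClosed (Set.range (X.homOfLE hUV)) := (X.homOfLE hUV).isClosedMap.isClosed_range
    obtain ⟨w, hw, hwx⟩ := Norm57.exists_isMax'_specializes x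
    have hwV : w ∈ f ⁻¹ᵁ V := hVmax _ (hbij.mapsTo hw)
    have hs' : (⟨w, hwV⟩ : (f ⁻¹ᵁ V).toScheme) ⤳ ⟨x, hx⟩ :=
      ((f ⁻¹ᵁ V).ι.isEmbedding.isInducing.specializes_iff).mp hwx
    obtain ⟨z, hz⟩ := hs'.mem_closed hcl ⟨⟨w, hU w hw⟩, Subtype.ext (by simp)⟩
    have := congrArg Subtype.val hz
    rw [Scheme.homOfLE_apply] at this
    exact (show z.1 = x from this) ▸ z.2

end Groth.Agent.Birat57
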