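import Groth.Agent.Birat57.TwoSpreads
import Groth.Agent.Fin57.FunctionField
import Mathlib.AlgebraicGeometry.Birational.Birational
import Mathlib.AlgebraicGeometry.FunctionField

/-!
`S`-birationality and the local rings at the generic points.
-/

set_option autoImplicit false
set_option backward.isDefEq.respectTransparency.types false
set_option linter.style.haveILetI false
universe u

open CategoryTheory CategoryTheory.Limits AlgebraicGeometry

namespace Groth.Agent.Birat57

variable {S X Y : Scheme.{u}} {sX : X ⟶ S} {sY : Y ⟶ S}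

/-- A partial isomorphism over `S` identifies the generic points and their local rings. -/
theorem exists_stalkIso [IrreducibleSpace X] [IrreducibleSpace Y]
    (h : Scheme.BirationalOver sX sY) :
    ∃ (hs : sX (genericPoint X) = sY (genericPoint Y))
      (φ : Y.presheaf.stalk (genericPoint Y) ⟶ X.presheaf.stalk (genericPoint X)),
      IsIso φ ∧ sY.stalkMap (genericPoint Y) ≫ φ =
        S.presheaf.stalkSpecializes (Inseparable.of_eq hs).specializes ≫
          sX.stalkMap (genericPoint X) := by
  obtain ⟨p, hp⟩ := h
  have hne : (p.source : Set X).Nonempty := p.dense_source.nonempty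
  have hξ : genericPoint X ∈ p.source :=
    ((genericPoint_spec X).mem_open_set_iff p.source.2).mpr (by simpa using hne)
  let g : p.source.toScheme ⟶ Y := p.iso.hom ≫ p.target.ι
  have hg : g ≫ sY = p.source.ι ≫ sX := by rw [Category.assoc]; exact hp
  haveI hgo : IsOpenImmersion g := inferInstance
  have hgξ : g ⟨genericPoint X, hξ⟩ = genericPoint Y := by
    obtain ⟨w, hw⟩ : ∃ w, g w = genericPoint Y := by
      have hd : (g.opensRange : Set Y).Nonempty := ⟨g ⟨genericPoint X, hξ⟩, ⟨_, rfl⟩⟩
      exact ((genericPoint_spec Y).mem_open_set_iff g.opensRange.2).mpr (by simpa using hd)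
    have h1 : (⟨genericPoint X, hξ⟩ : p.source.toScheme) ⤳ w :=
      (p.source.ι.isEmbedding.isInducing.specializes_iff).mp (genericPoint_specializes _)
    exact (hw ▸ h1.map g.continuous).antisymm (genericPoint_specializes _) |>.eq
  let z : p.source.toScheme := ⟨genericPoint X, hξ⟩
  haveI i1 : IsIso (g.stalkMap z) := (IsOpenImmersion.iff_isIso_stalkMap.mp hgo).2 z
  haveI i2 : IsIso (p.source.ι.stalkMap z) :=
    (IsOpenImmersion.iff_isIso_stalkMap.mp inferInstance).2 z
  have hs : sX (genericPoint X) = sY (genericPoint Y) := by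
    rw [← hgξ]
    exact congr($(hg.symm) z)
  refine ⟨hs, Y.presheaf.stalkSpecializes (Inseparable.of_eq hgξ).specializes ≫ g.stalkMap z ≫
    @inv _ _ _ _ (p.source.ι.stalkMap z) i2, ?_, ?_⟩
  · haveI : IsIso (Y.presheaf.stalkSpecializes (Inseparable.of_eq hgξ).specializes) :=
      ⟨Y.presheaf.stalkSpecializes (Inseparable.of_eq hgξ.symm).specializes, by simp, by simp⟩
    exact IsIso.comp_isIso' this (IsIso.comp_isIso' i1 (@IsIso.inv_isIso _ _ _ _ _ i2))
  · apply Spec.map_injective
    rw [← cancel_mono (S.fromSpecStalk _)]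
    have e1 : Spec.map (@inv _ _ _ _ (p.source.ι.stalkMap z) i2) ≫
        p.source.toScheme.fromSpecStalk z ≫ p.source.ι = X.fromSpecStalk (genericPoint X) := by
      rw [← Scheme.SpecMap_stalkMap_fromSpecStalk, ← Category.assoc, ← Spec.map_comp,
        IsIso.hom_inv_id, Spec.map_id, Category.id_comp]
      rfl
    simp only [Spec.map_comp, Category.assoc, Scheme.SpecMap_stalkMap_fromSpecStalk,
      Scheme.SpecMap_stalkSpecializes_fromSpecStalk,
      Scheme.SpecMap_stalkSpecializes_fromSpecStalk_assoc,
      Scheme.SpecMap_stalkMap_fromSpecStalk_assoc]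
    have key : Spec.map (g.stalkMap z) ≫ Y.fromSpecStalk (g z) ≫ sY =
        p.source.toScheme.fromSpecStalk z ≫ p.source.ι ≫ sX := by
      rw [Scheme.SpecMap_stalkMap_fromSpecStalk_assoc, hg]
    rw [← e1]
    refine (congrArg (Spec.map (@inv _ _ _ _ (p.source.ι.stalkMap z) i2) ≫ ·) key).trans ?_
    exact ((Category.assoc _ _ _).trans (congrArg _ (Category.assoc _ _ _))).symm

/-- An isomorphism of neighbourhoods of the generic points is a birational equivalence. -/
theorem birationalOver_of_isIso [IrreducibleSpace X] [IrreducibleSpace Y]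
    (U : X.Opens) (hU : genericPoint X ∈ U) (V : Y.Opens) (f : U.toScheme ⟶ V.toScheme) [IsIso f]
    (h : f ≫ V.ι ≫ sY = U.ι ≫ sX) : Scheme.BirationalOver sX sY := by
  refine ⟨⟨U, U.2.dense ⟨_, hU⟩, V, V.2.dense ⟨_, (f ⟨_, hU⟩).2⟩, asIso f⟩, h⟩

/-- The residue map at the generic point of an integral scheme is an isomorphism. -/
instance isIso_residue_genericPoint [IsIntegral X] : IsIso (X.residue (genericPoint X)) := by
  refine (ConcreteCategory.isIso_iff_bijective _).mpr ⟨?_, X.residue_surjective _⟩
  haveI : IsField (X.presheaf.stalk (genericPoint X) : Type u) := by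
    exact Field.toIsField (X.functionField : Type u)
  letI := this.toField
  exact RingHom.injective (X.residue (genericPoint X)).hom

/-- Same at any point equal to the generic point. -/
theorem isIso_residue_of_eq [IsIntegral X] {x : X} (hx : x = genericPoint X) :
    IsIso (X.residue x) := hx ▸ isIso_residue_genericPoint

end Groth.Agent.Birat57
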