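import Groth.Agent.Birat57.Over
import Mathlib.AlgebraicGeometry.SpreadingOut

/-!
Residue fields at generic points versus `S`-birationality.
-/

set_option autoImplicit false
set_option backward.isDefEq.respectTransparency.types false
set_option linter.style.haveILetI false
universe u

open CategoryTheory CategoryTheory.Limits AlgebraicGeometry

namespace Groth.Agent.Birat57

variable {S X Y : Scheme.{u}} {sX : X ⟶ S} {sY : Y ⟶ S}

theorem eqToHom_stalk_eq {a b : S} (h : a = b) :
    eqToHom (congrArg S.presheaf.stalk h) =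
      S.presheaf.stalkSpecializes (Inseparable.of_eq h.symm).specializes := by
  subst h; simp

theorem birationalOver_iff_stalk [IrreducibleSpace X] [IrreducibleSpace Y]
    (hback : ∀ (hs : sX (genericPoint X) = sY (genericPoint Y))
      (φ : Y.presheaf.stalk (genericPoint Y) ⟶ X.presheaf.stalk (genericPoint X)) [IsIso φ],
      sY.stalkMap (genericPoint Y) ≫ φ =
        S.presheaf.stalkSpecializes (Inseparable.of_eq hs).specializes ≫
          sX.stalkMap (genericPoint X) → Scheme.BirationalOver sX sY) :
    Scheme.BirationalOver sX sY ↔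
      ∃ (hs : sX (genericPoint X) = sY (genericPoint Y))
        (e : X.presheaf.stalk (genericPoint X) ≅ Y.presheaf.stalk (genericPoint Y)),
        sX.stalkMap (genericPoint X) ≫ e.hom =
          eqToHom (congrArg S.presheaf.stalk hs) ≫ sY.stalkMap (genericPoint Y) := by
  constructor
  · intro h
    obtain ⟨hs, φ, hφ, hc⟩ := exists_stalkIso h
    refine ⟨hs, (asIso φ).symm, ?_⟩
    rw [Iso.symm_hom, Iso.comp_inv_eq, Category.assoc, asIso_hom, hc, eqToHom_stalk_eq hs,
      TopCat.Presheaf.stalkSpecializes_comp_assoc]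
    simp
  · rintro ⟨hs, e, he⟩
    refine hback hs e.inv ?_
    rw [Iso.comp_inv_eq, Category.assoc, he, eqToHom_stalk_eq hs,
      TopCat.Presheaf.stalkSpecializes_comp_assoc]
    simp

theorem birationalOver_of_isIso_lfp [IrreducibleSpace X] [IrreducibleSpace Y]
    [LocallyOfFinitePresentation sX] [LocallyOfFinitePresentation sY]
    (hs : sX (genericPoint X) = sY (genericPoint Y))
    (φ : Y.presheaf.stalk (genericPoint Y) ⟶ X.presheaf.stalk (genericPoint X)) [IsIso φ]
    (h : sY.stalkMap (genericPoint Y) ≫ φ =
      S.presheaf.stalkSpecializes (Inseparable.of_eq hs).specializes ≫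
        sX.stalkMap (genericPoint X)) : Scheme.BirationalOver sX sY := by
  obtain ⟨U, hU, V, f, hf, -, hfS⟩ := SchBasics.exists_isIso_spread_out sX sY hs φ h
  exact birationalOver_of_isIso U hU V f hfS

theorem birationalOver_of_isIso_integral [IsIntegral X] [IsIntegral Y]
    [LocallyOfFiniteType sX] [LocallyOfFiniteType sY]
    (hs : sX (genericPoint X) = sY (genericPoint Y))
    (φ : Y.presheaf.stalk (genericPoint Y) ⟶ X.presheaf.stalk (genericPoint X)) [IsIso φ]
    (h : sY.stalkMap (genericPoint Y) ≫ φ =
      S.presheaf.stalkSpecializes (Inseparable.of_eq hs).specializes ≫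
        sX.stalkMap (genericPoint X)) : Scheme.BirationalOver sX sY := by
  have h' : sX.stalkMap (genericPoint X) ≫ inv φ =
      S.presheaf.stalkSpecializes (Inseparable.of_eq hs.symm).specializes ≫
        sY.stalkMap (genericPoint Y) := by
    rw [IsIso.comp_inv_eq, Category.assoc, h, TopCat.Presheaf.stalkSpecializes_comp_assoc]
    simp
  obtain ⟨U₀, hxU₀, f₀, hf₀, hfS⟩ := spread_out_of_isGermInjective sX sY hs φ h
  obtain ⟨V₀, hyV₀, g₀, hg₀, hgS⟩ := spread_out_of_isGermInjective sY sX hs.symm (inv φ) h'
  obtain ⟨U, hU, V, f, hf, -, hfS'⟩ :=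
    exists_isIso_of_two_spreads sX sY φ U₀ hxU₀ f₀ hf₀ hfS V₀ hyV₀ g₀ hg₀ hgS
  exact birationalOver_of_isIso U hU V f hfS'

theorem residue_eqToHom {a b : S} (h : a = b) :
    S.residue a ≫ eqToHom (congrArg S.residueField h) =
      eqToHom (congrArg S.presheaf.stalk h) ≫ S.residue b := by
  subst h; simp

/-- For integral schemes stalks and residue fields at generic points agree. -/
theorem exists_residueIso_iff [IsIntegral X] [IsIntegral Y]
    (hs : sX (genericPoint X) = sY (genericPoint Y)) :
    (∃ e : X.presheaf.stalk (genericPoint X) ≅ Y.presheaf.stalk (genericPoint Y),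
        sX.stalkMap (genericPoint X) ≫ e.hom =
          eqToHom (congrArg S.presheaf.stalk hs) ≫ sY.stalkMap (genericPoint Y)) ↔
      ∃ e : X.residueField (genericPoint X) ≅ Y.residueField (genericPoint Y),
        sX.residueFieldMap (genericPoint X) ≫ e.hom =
          eqToHom (congrArg S.residueField hs) ≫ sY.residueFieldMap (genericPoint Y) := by
  let a := asIso (X.residue (genericPoint X))
  let b := asIso (Y.residue (genericPoint Y))
  haveI : Epi (S.residue (sX (genericPoint X))) :=
    ConcreteCategory.epi_of_surjective _ (S.residue_surjective _)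
  constructor
  · rintro ⟨e, he⟩
    refine ⟨a.symm ≪≫ e ≪≫ b, ?_⟩
    rw [← cancel_epi (S.residue (sX (genericPoint X))),
      Scheme.residue_residueFieldMap_assoc, reassoc_of% residue_eqToHom hs,
      Scheme.residue_residueFieldMap]
    simp only [Iso.trans_hom, Iso.symm_hom, a, b, asIso_hom, asIso_inv, IsIso.hom_inv_id_assoc,
      reassoc_of% he]
  · rintro ⟨e, he⟩
    refine ⟨a ≪≫ e ≪≫ b.symm, ?_⟩
    simp only [Iso.trans_hom, Iso.symm_hom, a, b, asIso_hom, asIso_inv, ← Category.assoc,
      IsIso.comp_inv_eq]
    rw [Category.assoc, Category.assoc, ← Scheme.residue_residueFieldMap_assoc, he,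
      reassoc_of% residue_eqToHom hs, Scheme.residue_residueFieldMap]

end Groth.Agent.Birat57
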